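import Mathlib
import Groth.Agent.Cubic.Restrict

/-!
Binary forms: multiples of a form inside a linear system.
-/

set_option autoImplicit false
universe u
open MvPolynomial

namespace Groth.Agent.RatCurv86

variable {K : Type u} [Field K]

/-- Binary forms of degree `d`. -/
abbrev H (K : Type u) [Field K] (d : ℕ) : Submodule K (MvPolynomial (Fin 2) K) :=
  homogeneousSubmodule (Fin 2) K d

/-- Exponents of binary forms. -/
noncomputable def expEquiv (d : ℕ) : Fin (d + 1) ≃ {v : Fin 2 →₀ ℕ | v.degree = d} where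
  toFun i := ⟨Finsupp.single 0 i.val + Finsupp.single 1 (d - i.val), by
    simp only [Set.mem_ofPred_eq, map_add, Finsupp.degree_single]; omega⟩
  invFun v := ⟨v.val 0, by
    have := v.2
    simp [Finsupp.degree_eq_sum, Fin.sum_univ_two] at this
    omega⟩
  left_inv i := by ext; simp
  right_inv v := by
    have := v.2
    simp [Finsupp.degree_eq_sum, Fin.sum_univ_two] at this
    ext i
    fin_cases i <;> simp <;> omega

instance finite_H (d : ℕ) : Module.Finite K ↥(H K d) := by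
  rw [show H K d = homogeneousSubmodule (Fin 2) K d from rfl, homogeneousSubmodule_eq_finsupp_supported]
  haveI : Finite {v : Fin 2 →₀ ℕ | v.degree = d} := Finite.of_equiv _ (expEquiv d)
  exact Module.Finite.of_basis (basisRestrictSupport K {v : Fin 2 →₀ ℕ | v.degree = d})

theorem finrank_H (d : ℕ) : Module.finrank K ↥(H K d) = d + 1 := by
  rw [show H K d = homogeneousSubmodule (Fin 2) K d from rfl, homogeneousSubmodule_eq_finsupp_supported]
  change Module.finrank K ↥(restrictSupport K {v : Fin 2 →₀ ℕ | v.degree = d}) = d + 1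
  rw [Module.finrank_eq_nat_card_basis (basisRestrictSupport K {v : Fin 2 →₀ ℕ | v.degree = d}),
    ← Nat.card_congr (expEquiv d), Nat.card_fin]

theorem mul_mem_H {a b : ℕ} {p q : MvPolynomial (Fin 2) K} (hp : p ∈ H K a) (hq : q ∈ H K b) :
    p * q ∈ H K (a + b) :=
  IsHomogeneous.mul hp hq

/-- The bilinear map `(g, h) ↦ φ (g h)`. -/
noncomputable def pair {W : Type*} [AddCommGroup W] [Module K W] {a b n : ℕ} (h : a + b = n)
    (φ : ↥(H K n) →ₗ[K] W) : ↥(H K a) →ₗ[K] ↥(H K b) →ₗ[K] W :=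
  LinearMap.mk₂ K (fun g e => φ ⟨g.1 * e.1, h ▸ mul_mem_H g.2 e.2⟩)
    (fun g g' e => by rw [← map_add]; exact congrArg φ (Subtype.ext (add_mul _ _ _)))
    (fun c g e => by rw [← map_smul]; exact congrArg φ (Subtype.ext (smul_mul_assoc _ _ _)))
    (fun g e e' => by rw [← map_add]; exact congrArg φ (Subtype.ext (mul_add _ _ _)))
    (fun c g e => by rw [← map_smul]; exact congrArg φ (Subtype.ext (mul_smul_comm _ _ _)))

theorem exists_pair_eq_zero {W : Type*} [AddCommGroup W] [Module K W] [FiniteDimensional K W] {a b n : ℕ}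
    (h : a + b = n) (φ : ↥(H K n) →ₗ[K] W) (hlt : (b + 1) * Module.finrank K W < a + 1) :
    ∃ g : ↥(H K a), g ≠ 0 ∧ pair h φ g = 0 := by
  have h2 := LinearMap.finrank_range_add_finrank_ker (pair h φ)
  have h3 := Submodule.finrank_le (LinearMap.range (pair h φ))
  rw [Module.finrank_linearMap, finrank_H] at h3
  rw [finrank_H] at h2
  have hne : LinearMap.ker (pair h φ) ≠ ⊥ := fun e => by
    rw [e, finrank_bot] at h2
    omega
  obtain ⟨g, hg, hg0⟩ := Submodule.exists_mem_ne_zero_of_ne_bot hne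
  exact ⟨g, hg0, hg⟩

/-- The quotient map onto `H n / U`. -/
theorem exists_quot {n : ℕ} (U : Submodule K (MvPolynomial (Fin 2) K)) (hU : U ≤ H K n) (c : ℕ)
    (hc : Module.finrank K ↥U + c = n + 1) :
    ∃ φ : ↥(H K n) →ₗ[K] (Fin c → K), Function.Surjective φ ∧ ∀ x, φ x = 0 ↔ (x : MvPolynomial (Fin 2) K) ∈ U := by
  let U' : Submodule K ↥(H K n) := U.comap (H K n).subtype
  have h1 : Module.finrank K ↥U' = Module.finrank K ↥U :=
    (Submodule.comapSubtypeEquivOfLe hU).finrank_eq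
  have h2 : Module.finrank K (↥(H K n) ⧸ U') = c := by
    have := U'.finrank_quotient_add_finrank
    rw [finrank_H, h1] at this
    omega
  let e : (↥(H K n) ⧸ U') ≃ₗ[K] (Fin c → K) := LinearEquiv.ofFinrankEq _ _ (by rw [h2, Module.finrank_fin_fun])
  refine ⟨e.toLinearMap.comp U'.mkQ, e.surjective.comp U'.mkQ_surjective, fun x => ?_⟩
  rw [LinearMap.comp_apply, LinearEquiv.coe_coe, e.map_eq_zero_iff, Submodule.mkQ_apply, Submodule.Quotient.mk_eq_zero]
  rfl

theorem exists_secant (n r k : ℕ) (hkn : k ≤ n) (hineq : (r + 1) * (n + 1) ≤ (r + 2) * k)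
    (U : Submodule K (MvPolynomial (Fin 2) K)) (hU : U ≤ H K n) (hcodim : Module.finrank K ↥U + (r + 1) = n + 1) :
    ∃ g ∈ H K k, g ≠ 0 ∧ ∀ h ∈ H K (n - k), g * h ∈ U := by
  obtain ⟨φ, -, hφ⟩ := exists_quot U hU (r + 1) hcodim
  obtain ⟨g, hg0, hg⟩ := exists_pair_eq_zero (Nat.add_sub_cancel' hkn) φ (by
    rw [Module.finrank_fin_fun]
    obtain ⟨m, rfl⟩ : ∃ m, n = k + m := ⟨n - k, by omega⟩
    rw [Nat.add_sub_cancel_left]
    nlinarith)
  refine ⟨g.1, g.2, fun e => hg0 (Subtype.ext e), fun h hh => ?_⟩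
  have e := LinearMap.congr_fun hg ⟨h, hh⟩
  rw [LinearMap.zero_apply] at e
  exact (hφ _).mp e

/-- Separation of length-two subschemes. -/
def Sep (V : Submodule K (MvPolynomial (Fin 2) K)) : Prop :=
  ∀ e ∈ H K 2, e ≠ 0 → ∀ F ∈ H K 5, ∃ v ∈ V, ∃ h ∈ H K 3, F = v + e * h

theorem unique_trisecant (V : Submodule K (MvPolynomial (Fin 2) K)) (hV : V ≤ H K 5)
    (hdim : Module.finrank K ↥V = 5) (hsep : Sep V) :
    ∃ g ∈ H K 3, g ≠ 0 ∧ (∀ h ∈ H K 2, g * h ∈ V) ∧
      ∀ g' ∈ H K 3, (∀ h ∈ H K 2, g' * h ∈ V) → ∃ c : K, g' = c • g := by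
  obtain ⟨g, hg, hg0, hgV⟩ := exists_secant 5 0 3 (by norm_num) (by norm_num) V hV (by omega)
  refine ⟨g, hg, hg0, hgV, fun g' hg' hg'V => ?_⟩
  obtain ⟨φ, hφs, hφ⟩ := exists_quot V hV 1 (by omega)
  let Φ : ↥(H K 3) →ₗ[K] Module.Dual K ↥(H K 2) :=
    pair (rfl : 3 + 2 = 5) ((LinearMap.proj 0).comp φ)
  have hzero : ∀ x : ↥(H K 5), ((LinearMap.proj (R := K) (φ := fun _ : Fin 1 => K) 0).comp φ) x = 0 → (x : MvPolynomial (Fin 2) K) ∈ V :=
    fun x hx => (hφ x).mp (funext fun i => by rw [Subsingleton.elim i 0]; exact hx)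
  have hsurj : LinearMap.range Φ = ⊤ := by
    rw [← Subspace.dualCoannihilator_dualAnnihilator_eq (W := LinearMap.range Φ)]
    suffices (LinearMap.range Φ).dualCoannihilator = ⊥ by rw [this, Submodule.dualAnnihilator_bot]
    rw [eq_bot_iff]
    intro e he
    rw [Submodule.mem_bot]
    by_contra hne
    have hne' : (e : MvPolynomial (Fin 2) K) ≠ 0 := fun h => hne (Subtype.ext h)
    have hall : ∀ F ∈ H K 5, F ∈ V := by
      intro F hF
      obtain ⟨v, hv, h, hh, rfl⟩ := hsep e.1 e.2 hne' F hF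
      refine add_mem hv ?_
      rw [Submodule.mem_dualCoannihilator] at he
      have := hzero _ (he (Φ ⟨h, hh⟩) ⟨_, rfl⟩)
      rw [mul_comm]
      exact this
    have : FiniteDimensional K ↥V := Submodule.finiteDimensional_of_le hV
    have := Submodule.finrank_mono (show H K 5 ≤ V from hall)
    rw [finrank_H, hdim] at this
    omega
  have hker : Module.finrank K ↥(LinearMap.ker Φ) = 1 := by
    have h2 := LinearMap.finrank_range_add_finrank_ker Φ
    rw [hsurj, finrank_top, Subspace.dual_finrank_eq, finrank_H, finrank_H] at h2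
    omega
  have hmem : ∀ q (hq : q ∈ H K 3), (∀ h ∈ H K 2, q * h ∈ V) → (⟨q, hq⟩ : ↥(H K 3)) ∈ LinearMap.ker Φ := by
    intro q hq hqV
    refine LinearMap.mem_ker.mpr (LinearMap.ext fun e => ?_)
    change φ _ 0 = 0
    rw [(hφ _).mpr (hqV e.1 e.2)]
    rfl
  obtain ⟨c, hc⟩ := (finrank_eq_one_iff_of_nonzero' (⟨⟨g, hg⟩, hmem g hg hgV⟩ : ↥(LinearMap.ker Φ))
    (fun h => hg0 (congrArg (fun z : ↥(LinearMap.ker Φ) => z.1.1) h))).mp hker ⟨⟨g', hg'⟩, hmem g' hg' hg'V⟩
  exact ⟨c, (congrArg (fun z : ↥(LinearMap.ker Φ) => z.1.1) hc).symm⟩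

theorem exists_quadratic_factor [IsAlgClosed K] [CharZero K] {g : MvPolynomial (Fin 2) K} (hg : g ∈ H K 3) (hg0 : g ≠ 0) :
    ∃ e ∈ H K 2, ∃ l ∈ H K 1, e ≠ 0 ∧ g = e * l := by
  have hg' : g.IsHomogeneous 3 := hg
  obtain ⟨p₁, q₁, p₂, q₂, p₃, q₃, hC⟩ := Cubic.Restrict.binary_cubic (eval ![1, 0] g)
    (Cubic.Basic.B g ![1, 0] ![0, 1]) (Cubic.Basic.B g ![0, 1] ![1, 0]) (eval ![0, 1] g)
  let L : K → K → MvPolynomial (Fin 2) K := fun p q => C p * X 0 + C q * X 1
  have hL : ∀ p q, L p q ∈ H K 1 := fun p q => (isHomogeneous_C_mul_X p 0).add (isHomogeneous_C_mul_X q 1)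
  have heq : g = L p₁ q₁ * L p₂ q₂ * L p₃ q₃ := by
    refine MvPolynomial.funext fun x => ?_
    have hx : x = x 0 • ![(1 : K), 0] + x 1 • ![(0 : K), 1] := by
      funext i; fin_cases i <;> simp
    conv_lhs => rw [hx, Cubic.Restrict.eval_pair hg']
    rw [hC]
    simp [L]
  refine ⟨_, mul_mem_H (hL p₁ q₁) (hL p₂ q₂), _, hL p₃ q₃, fun h => hg0 ?_, heq⟩
  rw [heq, h, zero_mul]

theorem infinitely_many [IsAlgClosed K] [CharZero K] (V : Submodule K (MvPolynomial (Fin 2) K)) (hV : V ≤ H K 5)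
    (hdim : Module.finrank K ↥V = 4) (hsep : Sep V) (S : Finset (MvPolynomial (Fin 2) K)) :
    ∃ g ∈ H K 3, g ≠ 0 ∧ 2 ≤ Module.finrank K ↥(V ⊓ (H K 2).map (LinearMap.mulLeft K g)) ∧
      ∀ g' ∈ S, ∀ c : K, g ≠ c • g' := by
  classical
  obtain ⟨φ, hφs, hφ⟩ := exists_quot V hV 2 (by omega)
  let μ : K → (Fin 2 → K) →ₗ[K] K := fun t => LinearMap.proj 0 + t • LinearMap.proj 1
  have key : ∀ t : K, ∃ g : ↥(H K 3), g ≠ 0 ∧ pair (rfl : 3 + 2 = 5) ((μ t).comp φ) g = 0 :=
    fun t => exists_pair_eq_zero _ _ (by rw [Module.finrank_self]; norm_num)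
  choose g hg0 hg using key
  have hrank : ∀ t, 2 ≤ Module.finrank K ↥(V ⊓ (H K 2).map (LinearMap.mulLeft K (g t).1)) := by
    intro t
    let ψ : ↥(H K 2) →ₗ[K] (Fin 2 → K) := pair (rfl : 3 + 2 = 5) φ (g t)
    have hr : LinearMap.range ψ ≤ LinearMap.ker (μ t) := by
      rintro _ ⟨e, rfl⟩
      exact LinearMap.congr_fun (hg t) e
    have hμ : Module.finrank K ↥(LinearMap.ker (μ t)) = 1 := by
      have h2 := LinearMap.finrank_range_add_finrank_ker (μ t)
      have hμs : LinearMap.range (μ t) = ⊤ := LinearMap.range_eq_top.mpr fun c => ⟨![c, 0], by simp [μ]⟩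
      rw [hμs, finrank_top, Module.finrank_self, Module.finrank_fin_fun] at h2
      omega
    have h1 := Submodule.finrank_mono hr
    have h2 := LinearMap.finrank_range_add_finrank_ker ψ
    rw [finrank_H] at h2
    let m : ↥(H K 2) →ₗ[K] MvPolynomial (Fin 2) K := (LinearMap.mulLeft K (g t).1).comp (H K 2).subtype
    have hm : Function.Injective m := fun a b h =>
      Subtype.ext (mul_left_cancel₀ (fun e => hg0 t (Subtype.ext e)) h)
    have hle : Submodule.map m (LinearMap.ker ψ) ≤ V ⊓ (H K 2).map (LinearMap.mulLeft K (g t).1) := by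
      rintro _ ⟨e, he, rfl⟩
      exact ⟨(hφ _).mp he, e.1, e.2, rfl⟩
    have hfin : Module.Finite K ↥((H K 2).map (LinearMap.mulLeft K (g t).1)) := inferInstance
    have : FiniteDimensional K ↥(V ⊓ (H K 2).map (LinearMap.mulLeft K (g t).1)) :=
      Submodule.finiteDimensional_of_le inf_le_right
    have h3 := Submodule.finrank_mono hle
    rw [← (Submodule.equivMapOfInjective m hm _).finrank_eq] at h3
    omega
  by_contra hcon
  have hall : ∀ t, ∃ g' ∈ S, ∃ c : K, (g t).1 = c • g' := fun t => by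
    by_contra h
    push Not at h
    exact hcon ⟨(g t).1, (g t).2, fun e => hg0 t (Subtype.ext e), hrank t, h⟩
  choose g' hg'S c hc using hall
  obtain ⟨t, t', htt, he⟩ := Finite.exists_ne_map_eq_of_infinite fun t : K => (⟨g' t, hg'S t⟩ : ↥S)
  have he' : g' t = g' t' := congrArg Subtype.val he
  have hc0 : ∀ t, c t ≠ 0 := fun t h => hg0 t (Subtype.ext (by rw [hc t, h, zero_smul]; rfl))
  have hmem : ∀ e ∈ H K 2, (g t).1 * e ∈ V := by
    intro e he2
    have hgt : g t' = (c t' / c t) • g t := Subtype.ext (by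
      rw [SetLike.val_smul, hc t, hc t', he', smul_smul, div_mul_cancel₀ _ (hc0 t)])
    set w := φ ⟨(g t).1 * e, mul_mem_H (g t).2 he2⟩ with hw
    have h1 : μ t w = 0 := LinearMap.congr_fun (hg t) ⟨e, he2⟩
    have h2 : μ t' w = 0 := by
      have h := hg t'
      rw [hgt, map_smul, smul_eq_zero] at h
      exact LinearMap.congr_fun (h.resolve_left (div_ne_zero (hc0 t') (hc0 t))) ⟨e, he2⟩
    simp [μ] at h1 h2
    have hw1 : w 1 = 0 := by
      have : (t - t') * w 1 = 0 := by linear_combination h1 - h2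
      exact (mul_eq_zero.mp this).resolve_left (sub_ne_zero.mpr htt)
    rw [hw1, mul_zero, add_zero] at h1
    exact (hφ _).mp (funext fun i => by fin_cases i <;> assumption)
  obtain ⟨e, he2, l, hl, hene, hge⟩ := exists_quadratic_factor (g t).2 fun h => hg0 t (Subtype.ext h)
  let mg : MvPolynomial (Fin 2) K →ₗ[K] MvPolynomial (Fin 2) K := LinearMap.mulLeft K (g t).1
  let E := (H K 3).map (LinearMap.mulLeft K e)
  have hgle : (H K 2).map mg ≤ V ⊓ E := by
    rintro _ ⟨h, hh, rfl⟩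
    refine ⟨hmem h hh, l * h, mul_mem_H hl hh, ?_⟩
    simp only [mg, LinearMap.mulLeft_apply, hge]
    ring
  have hFV : FiniteDimensional K ↥V := Submodule.finiteDimensional_of_le hV
  have hsum : H K 5 ≤ V ⊔ E := by
    intro F hF
    obtain ⟨v, hv, h, hh, rfl⟩ := hsep e he2 hene F hF
    exact Submodule.add_mem_sup hv ⟨h, hh, rfl⟩
  have h1 := Submodule.finrank_mono hsum
  have h2 := Submodule.finrank_sup_add_finrank_inf_eq V E
  have h3 : Module.finrank K ↥E ≤ 4 := by
    have := Submodule.finrank_map_le (LinearMap.mulLeft K e) (H K 3)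
    rw [finrank_H] at this
    exact this
  have h4 := Submodule.finrank_mono hgle
  rw [← (Submodule.equivMapOfInjective mg (fun a b h => mul_left_cancel₀ (fun e => hg0 t (Subtype.ext e)) h) (H K 2)).finrank_eq,
    finrank_H] at h4
  rw [finrank_H] at h1
  omega

end Groth.Agent.RatCurv86
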